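import Cfsg.Agent.Cores.Residual
import Cfsg.Agent.Cores.Constrained
import Cfsg.Agent.Cores.PCore
import Cfsg.Agent.H39.Basic
import Cfsg.Agent.S0205

/-!
Groups in which the centraliser of every involution has a normal 2-complement: the centraliser of an
involution `u` is `O(C(u))` times any Sylow 2-subgroup of it, so conjugation by elements of `C(u)`
induces nothing outside that Sylow subgroup.
-/

set_option autoImplicit false
set_option linter.style.haveILetI false

namespace Cfsg.Agent.H23.TwoNil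

open Subgroup

universe u

variable {G : Type u} [Group G] [Finite G]

/-- All centralisers of involutions have normal 2-complements. -/
def TN (G : Type u) [Group G] : Prop :=
  ∀ t : G, orderOf t = 2 → Cfsg.HasNormalPComplement 2 ↥(centralizer ({t} : Set G))

local instance : Fact (Nat.Prime 2) := ⟨Nat.prime_two⟩

theorem isPSolvable_centralizer (h : TN G) {t : G} (ht : orderOf t = 2) :
    Cfsg.IsPSolvable 2 ↥(centralizer ({t} : Set G)) :=
  Cores.isPSolvable_of_normal_of_quotient (Cfsg.pResidual 2 ↥(centralizer ({t} : Set G)))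
    (Cores.isPSolvable_of_coprime (Cores.hasNormalPComplement_iff_coprime.1 (h t ht)))
    (Cores.isPSolvable_of_isPGroup Cores.isPGroup_quotient_pResidual)

theorem constrained (h : TN G) {t : G} (ht : orderOf t = 2) :
    Cfsg.IsPConstrained 2 ↥(centralizer ({t} : Set G)) :=
  Cores.isPConstrained_of_isPSolvable (isPSolvable_centralizer h ht)

theorem isPGroup_centralizer_of_core (h : TN G) {t : G} (ht : orderOf t = 2)
    (hcore : Cfsg.centralizerPPrimeCore 2 t = ⊥) : IsPGroup 2 ↥(centralizer ({t} : Set G)) := by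
  rw [Cfsg.centralizerPPrimeCore, map_eq_bot_iff_of_injective _ (subtype_injective _)] at hcore
  have hq := Cores.hasNormalPComplement_iff_isPGroup_quotient.1 (h t ht)
  intro x
  obtain ⟨k, hk⟩ := hq (x : ↥(centralizer ({t} : Set G)) ⧸ _)
  rw [← QuotientGroup.mk_pow, QuotientGroup.eq_one_iff, hcore, mem_bot] at hk
  exact ⟨k, hk⟩

/-- An element of the centraliser of an involution carrying a member of a Sylow 2-subgroup of it into that
subgroup acts on this member as an element of the subgroup does. -/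
theorem exists_conj_eq (h : TN G) {t : G} (ht : orderOf t = 2) (S : Sylow 2 G)
    (hSC : (S : Subgroup G) ≤ centralizer ({t} : Set G)) {g x : G}
    (hg : g ∈ centralizer ({t} : Set G)) (hx : x ∈ (S : Subgroup G))
    (hgx : g * x * g⁻¹ ∈ (S : Subgroup G)) :
    ∃ s ∈ (S : Subgroup G), g * x * g⁻¹ = s * x * s⁻¹ := by
  set C := centralizer ({t} : Set G) with hC
  set O := Cfsg.pPrimeCore 2 C with hO
  set P : Sylow 2 C := S.subtype hSC
  have hq := Cores.hasNormalPComplement_iff_isPGroup_quotient.1 (h t ht)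
  let π := QuotientGroup.mk' O
  have hsurj : Function.Surjective π := QuotientGroup.mk'_surjective _
  have htop : (P : Subgroup C).map π = ⊤ := by
    have h1 := (hq.to_subgroup (⊤ : Subgroup (C ⧸ O)))
    have h2 : IsPGroup 2 (⊤ : Subgroup (C ⧸ O)) := h1
    exact (((P.mapSurjective hsurj).is_maximal' h2 le_top).trans rfl).symm
  obtain ⟨s, hs, hse⟩ := Subgroup.mem_map.1 (htop ▸ mem_top (π ⟨g, hg⟩))
  refine ⟨s, hs, ?_⟩
  set g' : C := ⟨g, hg⟩
  set x' : C := ⟨x, hSC hx⟩
  have h1 : g' * x' * g'⁻¹ * (s * x' * s⁻¹)⁻¹ ∈ O := by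
    refine (QuotientGroup.eq_one_iff _).1 ?_
    show π (g' * x' * g'⁻¹ * (s * x' * s⁻¹)⁻¹) = 1
    simp only [map_mul, map_inv, hse]
    group
  have h2 : g' * x' * g'⁻¹ * (s * x' * s⁻¹)⁻¹ ∈ (P : Subgroup C) :=
    mul_mem (show g * x * g⁻¹ ∈ (S : Subgroup G) from hgx)
      (inv_mem (mul_mem (mul_mem hs (show x ∈ (S : Subgroup G) from hx)) (inv_mem hs)))
  obtain ⟨k, hk⟩ := P.isPGroup' ⟨_, h2⟩
  have hk' : (g' * x' * g'⁻¹ * (s * x' * s⁻¹)⁻¹) ^ 2 ^ k = 1 := congrArg Subtype.val hk
  have hodd : (Nat.card O).Coprime 2 := Cores.coprime_card_pPrimeCore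
  have hd1 : orderOf (g' * x' * g'⁻¹ * (s * x' * s⁻¹)⁻¹) ∣ Nat.card O :=
    O.orderOf_dvd_natCard h1
  have h3 : g' * x' * g'⁻¹ * (s * x' * s⁻¹)⁻¹ = 1 :=
    orderOf_eq_one_iff.1 (Nat.eq_one_of_dvd_coprimes (hodd.pow_right k) hd1
      (orderOf_dvd_of_pow_eq_one hk'))
  exact congrArg Subtype.val (mul_inv_eq_one.1 h3)

/-- The odd part of the centraliser of an involution, as a subgroup of the group. -/
noncomputable def core (t : G) : Subgroup G := Cfsg.centralizerPPrimeCore 2 t

omit [Finite G] in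
theorem core_le (t : G) : core t ≤ centralizer ({t} : Set G) := map_subtype_le _

omit [Finite G] in
theorem core_conj_mem {t c y : G} (hc : c ∈ centralizer ({t} : Set G)) (hy : y ∈ core t) :
    c * y * c⁻¹ ∈ core t := by
  obtain ⟨y', hy', rfl⟩ := hy
  exact ⟨⟨c, hc⟩ * y' * ⟨c, hc⟩⁻¹, (inferInstance : (Cfsg.pPrimeCore 2 _).Normal).conj_mem _ hy' _, rfl⟩

/-- An element of odd order in the centraliser of an involution lies in its core. -/
theorem not_dvd_iff_mem_core (h : TN G) {t : G} (ht : orderOf t = 2) {y : G}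
    (hy : y ∈ centralizer ({t} : Set G)) : ¬ 2 ∣ orderOf y ↔ y ∈ core t := by
  constructor
  · intro ho
    refine ⟨⟨y, hy⟩, ?_, rfl⟩
    have hq := Cores.hasNormalPComplement_iff_isPGroup_quotient.1 (h t ht)
    obtain ⟨k, hk⟩ := hq (QuotientGroup.mk ⟨y, hy⟩)
    refine (QuotientGroup.eq_one_iff _).1 (orderOf_eq_one_iff.1 ?_)
    refine Nat.eq_one_of_dvd_coprimes (a := orderOf y) (b := 2 ^ k)
      (((Nat.prime_two.coprime_iff_not_dvd).2 ho).symm.pow_right k) ?_ (orderOf_dvd_of_pow_eq_one hk)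
    have := orderOf_map_dvd (QuotientGroup.mk' (Cfsg.pPrimeCore 2 (centralizer ({t} : Set G)))) ⟨y, hy⟩
    rwa [Subgroup.orderOf_mk] at this
  · rintro ⟨y', hy', rfl⟩ h2
    have hc : (Nat.card (Cfsg.pPrimeCore 2 (centralizer ({t} : Set G)))).Coprime 2 :=
      Cores.coprime_card_pPrimeCore
    rw [Subgroup.coe_subtype, Subgroup.orderOf_coe] at h2
    have := Nat.eq_one_of_dvd_coprimes hc (h2.trans ((Cfsg.pPrimeCore 2 _).orderOf_dvd_natCard hy'))
      (dvd_refl 2)
    omega

theorem exists_core_mul (h : TN G) {t : G} (ht : orderOf t = 2) (S : Sylow 2 G)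
    (hSC : (S : Subgroup G) ≤ centralizer ({t} : Set G)) {c : G}
    (hc : c ∈ centralizer ({t} : Set G)) : ∃ o ∈ core t, ∃ s ∈ (S : Subgroup G), c = o * s := by
  set C := centralizer ({t} : Set G) with hC
  set O := Cfsg.pPrimeCore 2 C with hO
  set P : Sylow 2 C := S.subtype hSC
  have hq := Cores.hasNormalPComplement_iff_isPGroup_quotient.1 (h t ht)
  let π := QuotientGroup.mk' O
  have hsurj : Function.Surjective π := QuotientGroup.mk'_surjective _
  have htop : (P : Subgroup C).map π = ⊤ :=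
    (((P.mapSurjective hsurj).is_maximal' (hq.to_subgroup _) le_top).trans rfl).symm
  obtain ⟨s, hs, hse⟩ := Subgroup.mem_map.1 (htop ▸ mem_top (π ⟨c, hc⟩))
  refine ⟨c * (s : G)⁻¹, ⟨⟨c, hc⟩ * s⁻¹, ?_, rfl⟩, s, hs, by simp⟩
  refine (QuotientGroup.eq_one_iff _).1 ?_
  show π (⟨c, hc⟩ * s⁻¹) = 1
  rw [map_mul, map_inv, hse, mul_inv_cancel]

/-- A simple group has no subgroup of index 2. -/
theorem index_ne_two [IsSimpleGroup G] (hG : ¬ IsMulCommutative G) (H : Subgroup G) :
    H.index ≠ 2 := by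
  intro h2
  rcases (normal_of_index_eq_two h2).eq_bot_or_eq_top with rfl | rfl
  · rw [index_bot] at h2
    exact hG (isCyclic_of_prime_card h2).isMulCommutative
  · rw [index_top] at h2
    omega

end Cfsg.Agent.H23.TwoNil
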