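import Cfsg.Agent.H70.SignedUnits

/-!
Five integral vectors of norm three with all inner products two share two coordinates; together with a
vector of norm five this determines three signed values.
-/

set_option autoImplicit false

namespace Cfsg.Agent.H23.TwoNil.Vectors

open Finset H70.SignedUnits

variable {X : Type*} [Fintype X] [DecidableEq X]

omit [DecidableEq X] in
theorem unit_of_norm_three {v : X → ℤ} (h : dot v v = 3) (x : X) :
    v x = 0 ∨ v x = 1 ∨ v x = -1 := by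
  have h1 : v x * v x ≤ 3 :=
    h ▸ Finset.single_le_sum (f := fun x => v x * v x) (fun y _ => mul_self_nonneg (v y)) (mem_univ x)
  have h2 : v x ≤ 1 := by nlinarith
  have h3 : -1 ≤ v x := by nlinarith
  omega

theorem card_support {v : X → ℤ} (h : dot v v = 3) : (univ.filter fun x => v x ≠ 0).card = 3 := by
  have e : dot v v = ∑ x, if v x ≠ 0 then (1 : ℤ) else 0 := Finset.sum_congr rfl fun x _ => by
    rcases unit_of_norm_three h x with e | e | e <;> simp [e]
  rw [h, Finset.sum_boole] at e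
  exact_mod_cast e.symm

theorem agree {v v' : X → ℤ} (h : dot v v = 3) (h' : dot v' v' = 3) (hd : dot v v' = 2) :
    (univ.filter fun x => v x ≠ 0 ∧ v' x ≠ 0).card = 2 ∧
      ∀ x, v x ≠ 0 → v' x ≠ 0 → v x = v' x := by
  set I := univ.filter fun x => v x ≠ 0 ∧ v' x ≠ 0 with hI
  set N := univ.filter fun x => v x ≠ 0 ∧ v' x ≠ 0 ∧ v x ≠ v' x with hN
  have e : dot v v' = (I.card : ℤ) - 2 * (N.card : ℤ) := by
    rw [hI, hN]
    rw [← Finset.sum_boole, ← Finset.sum_boole, Finset.mul_sum, ← Finset.sum_sub_distrib]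
    refine Finset.sum_congr rfl fun x _ => ?_
    rcases unit_of_norm_three h x with e | e | e <;>
      rcases unit_of_norm_three h' x with e' | e' | e' <;> simp [e, e']
  have hle : I.card ≤ 3 := by
    rw [← card_support h]
    exact card_le_card fun x hx => by
      simp only [hI, mem_filter, mem_univ, true_and] at hx ⊢
      exact hx.1
  have hNI : N.card ≤ I.card := card_le_card fun x hx => by
    simp only [hI, hN, mem_filter, mem_univ, true_and] at hx ⊢
    exact ⟨hx.1, hx.2.1⟩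
  rw [hd] at e
  refine ⟨by omega, fun x hx hx' => ?_⟩
  by_contra hne
  have : 0 < N.card := card_pos.2 ⟨x, by simp [hN, hx, hx', hne]⟩
  omega

omit [Fintype X] in
theorem core_subset (T : Fin 5 → Finset X) (hc : ∀ i, (T i).card = 3)
    (hi : ∀ i j, i ≠ j → (T i ∩ T j).card = 2) (k : Fin 5) : T 0 ∩ T 1 ⊆ T k := by
  have hne : ∀ i j, i ≠ j → T i ≠ T j := fun i j h e => by
    have := hi i j h
    rw [e, inter_self, hc] at this
    omega
  rcases eq_or_ne k 0 with rfl | hk0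
  · exact inter_subset_left
  rcases eq_or_ne k 1 with rfl | hk1
  · exact inter_subset_right
  set Q := T 0 ∩ T 1 with hQ
  have hQc : Q.card = 2 := hi 0 1 (by decide)
  -- a set missing a common point is determined by it
  have hmiss : ∀ i : Fin 5, i ≠ 0 → i ≠ 1 → ∀ x ∈ Q, x ∉ T i → T i = (T 0 ∪ T 1).erase x := by
    intro i h0 h1 x hx hxi
    have key : ∀ j : Fin 5, i ≠ j → x ∈ T j → (T j).erase x ⊆ T i := by
      intro j hj hxj
      have hsub : T i ∩ T j ⊆ (T j).erase x := fun y hy => mem_erase.2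
        ⟨fun e => hxi (e ▸ (mem_inter.1 hy).1), (mem_inter.1 hy).2⟩
      have := eq_of_subset_of_card_le hsub (by rw [card_erase_of_mem hxj, hc, hi i j hj])
      exact this ▸ inter_subset_left
    obtain ⟨hx0, hx1⟩ := mem_inter.1 hx
    have hsub : (T 0 ∪ T 1).erase x ⊆ T i := by
      rw [erase_union_distrib]
      exact union_subset (key 0 h0 hx0) (key 1 h1 hx1)
    refine (eq_of_subset_of_card_le hsub ?_).symm
    have hu := card_union_add_card_inter (T 0) (T 1)
    rw [hc, hc, ← hQ, hQc] at hu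
    rw [card_erase_of_mem (mem_union_left _ hx0), hc]
    omega
  intro x hx
  by_contra hxk
  have hall : ∀ l : Fin 5, l ≠ 0 → l ≠ 1 → ∃ y ∈ Q, y ∉ T l := by
    intro l h0 h1
    by_contra hcon
    push Not at hcon
    have hkl : k ≠ l := fun e => hxk (e ▸ hcon x hx)
    have e0 : T l ∩ T 0 = Q := (eq_of_subset_of_card_le (fun y hy => mem_inter.2
      ⟨hcon y hy, (mem_inter.1 hy).1⟩) (by rw [hi l 0 h0, hQc])).symm
    have e1 : T l ∩ T 1 = Q := (eq_of_subset_of_card_le (fun y hy => mem_inter.2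
      ⟨hcon y hy, (mem_inter.1 hy).2⟩) (by rw [hi l 1 h1, hQc])).symm
    have hsub : T k ∩ T l ⊆ Q.erase x := by
      intro y hy
      obtain ⟨hyk, hyl⟩ := mem_inter.1 hy
      rw [hmiss k hk0 hk1 x hx hxk] at hyk
      obtain ⟨hyx, hyu⟩ := mem_erase.1 hyk
      refine mem_erase.2 ⟨hyx, ?_⟩
      rcases mem_union.1 hyu with h | h
      · exact e0 ▸ mem_inter.2 ⟨hyl, h⟩
      · exact e1 ▸ mem_inter.2 ⟨hyl, h⟩
    have := card_le_card hsub
    rw [hi k l hkl, card_erase_of_mem hx, hQc] at this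
    omega
  obtain ⟨y2, hy2, hy2'⟩ := hall 2 (by decide) (by decide)
  obtain ⟨y3, hy3, hy3'⟩ := hall 3 (by decide) (by decide)
  obtain ⟨y4, hy4, hy4'⟩ := hall 4 (by decide) (by decide)
  obtain ⟨p, q, -, hpq⟩ := card_eq_two.1 hQc
  have h2 := hmiss 2 (by decide) (by decide) y2 hy2 hy2'
  have h3 := hmiss 3 (by decide) (by decide) y3 hy3 hy3'
  have h4 := hmiss 4 (by decide) (by decide) y4 hy4 hy4'
  rw [hpq] at hy2 hy3 hy4
  simp only [mem_insert, mem_singleton] at hy2 hy3 hy4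
  have h23 : y2 ≠ y3 := fun e => hne 2 3 (by decide) (by rw [h2, h3, e])
  have h24 : y2 ≠ y4 := fun e => hne 2 4 (by decide) (by rw [h2, h4, e])
  have h34 : y3 ≠ y4 := fun e => hne 3 4 (by decide) (by rw [h3, h4, e])
  rcases hy2 with rfl | rfl <;> rcases hy3 with rfl | rfl <;> rcases hy4 with rfl | rfl <;> simp_all

theorem betas {x y : ℤ}
    (h : x * x + y * y + (4 * ((1 - x - y) * (1 - x - y)) + (x + y) * (x + y)) ≤ 5) :
    (x = 0 ∧ y = 0) ∨ (x = 1 ∧ y = 0) ∨ (x = 0 ∧ y = 1) := by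
  have h1 : -2 ≤ x := by nlinarith
  have h2 : x ≤ 2 := by nlinarith
  have h3 : -2 ≤ y := by nlinarith
  have h4 : y ≤ 2 := by nlinarith
  interval_cases x <;> interval_cases y <;> omega

/-- The three signed values. -/
theorem three_values (a : Fin 5 → X → ℤ) (b : X → ℤ)
    (ha : ∀ i j, dot (a i) (a j) = if i = j then 3 else 2) (hb : dot b b = 5)
    (hba : ∀ i, dot b (a i) = if i = 4 then 0 else 1) :
    ∃ x₁ x₂ x₃ : X, x₁ ≠ x₂ ∧ x₁ ≠ x₃ ∧ x₂ ≠ x₃ ∧
      (∀ x, x ≠ x₁ → x ≠ x₂ → x ≠ x₃ → a 4 x = 0) ∧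
      (a 4 x₁ = 1 ∨ a 4 x₁ = -1) ∧ (a 4 x₂ = 1 ∨ a 4 x₂ = -1) ∧ (a 4 x₃ = 1 ∨ a 4 x₃ = -1) ∧
      a 4 x₁ * (-4 * b x₁ - 4 * a 4 x₁ + ∑ i, a i x₁) = 1 ∧
      a 4 x₂ * (-4 * b x₂ - 4 * a 4 x₂ + ∑ i, a i x₂) = 1 ∧
      a 4 x₃ * (-4 * b x₃ - 4 * a 4 x₃ + ∑ i, a i x₃) = -3 := by
  have hn : ∀ i, dot (a i) (a i) = 3 := fun i => by rw [ha, if_pos rfl]
  let T : Fin 5 → Finset X := fun i => univ.filter fun x => a i x ≠ 0
  have hT : ∀ i x, x ∈ T i ↔ a i x ≠ 0 := fun i x => by simp [T]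
  have hag := fun i j (h : i ≠ j) => agree (hn i) (hn j) (by rw [ha, if_neg h])
  have hc : ∀ i, (T i).card = 3 := fun i => card_support (hn i)
  have hi : ∀ i j, i ≠ j → (T i ∩ T j).card = 2 := fun i j h => by
    rw [← (hag i j h).1]
    congr 1
    ext x
    simp [T]
  have hsub := core_subset T hc hi
  obtain ⟨p, q, hpq, hQ⟩ := card_eq_two.1 (hi 0 1 (by decide))
  have hp : ∀ i, p ∈ T i := fun i => hsub i (by rw [hQ]; simp)
  have hq : ∀ i, q ∈ T i := fun i => hsub i (by rw [hQ]; simp)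
  have hr : ∀ i, ∃ r, r ≠ p ∧ r ≠ q ∧ T i = {p, q, r} := by
    intro i
    have h2 : ({p, q} : Finset X) ⊆ T i := by simp [insert_subset_iff, hp i, hq i]
    obtain ⟨r, hr⟩ := card_eq_one.1 (show (T i \ {p, q}).card = 1 by
      rw [card_sdiff_of_subset h2, hc, card_pair hpq])
    have hr' : r ∈ T i \ {p, q} := hr ▸ mem_singleton_self r
    simp only [mem_sdiff, mem_insert, mem_singleton, not_or] at hr'
    refine ⟨r, hr'.2.1, hr'.2.2, ?_⟩
    rw [← sdiff_union_of_subset h2, hr]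
    ext x; simp; tauto
  choose r hrp hrq hTr using hr
  have hrinj : ∀ i j, i ≠ j → r i ≠ r j := fun i j h e => by
    have := hi i j h
    rw [hTr, hTr, e, inter_self, ← e, ← hTr i, hc] at this
    omega
  have hsame : ∀ i, a i p = a 4 p ∧ a i q = a 4 q := fun i => by
    rcases eq_or_ne i 4 with rfl | h
    · exact ⟨rfl, rfl⟩
    · exact ⟨(hag i 4 h).2 p ((hT _ _).1 (hp i)) ((hT _ _).1 (hp 4)),
        (hag i 4 h).2 q ((hT _ _).1 (hq i)) ((hT _ _).1 (hq 4))⟩
  have hu : ∀ i x, x ∈ T i → a i x = 1 ∨ a i x = -1 := fun i x hx =>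
    (unit_of_norm_three (hn i) x).resolve_left ((hT i x).1 hx)
  have hsq : ∀ i x, x ∈ T i → a i x * a i x = 1 := fun i x hx => by
    rcases hu i x hx with e | e <;> rw [e] <;> rfl
  have hzero : ∀ i x, x ≠ p → x ≠ q → x ≠ r i → a i x = 0 := fun i x h1 h2 h3 => by
    by_contra h
    have := (hT i x).2 h
    rw [hTr] at this
    simp [h1, h2, h3] at this
  have hrm : ∀ i, r i ∈ T i := fun i => by rw [hTr]; simp
  set β : Fin 5 → ℤ := fun i => a i (r i) * b (r i) with hβ
  set βp := a 4 p * b p with hβp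
  set βq := a 4 q * b q with hβq
  have hdot : ∀ i, dot b (a i) = βp + βq + β i := by
    intro i
    have e : dot b (a i) = ∑ x ∈ T i, b x * a i x :=
      (Finset.sum_subset (subset_univ _) fun x _ hx => by
        rw [hT, not_not] at hx; rw [hx, mul_zero]).symm
    rw [e, hTr, sum_insert (by simp [hpq, (hrp i).symm]), sum_insert (by simp [(hrq i).symm]),
      sum_singleton, hβp, hβq, hβ, (hsame i).1, (hsame i).2]
    ring
  have hnorm : βp * βp + βq * βq + ∑ i, β i * β i ≤ 5 := by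
    have e : ∀ i x, x ∈ T i → a i x * b x * (a i x * b x) = b x * b x := fun i x hx => by
      linear_combination (b x * b x) * hsq i x hx
    simp only [hβp, hβq, hβ, e 4 p (hp 4), e 4 q (hq 4), fun i => e i (r i) (hrm i)]
    rw [← hb]
    have hinj : Set.InjOn r (univ : Finset (Fin 5)) := fun i _ j _ h => by
      by_contra hne; exact hrinj i j hne h
    have : (∑ x ∈ insert p (insert q (univ.image r)), b x * b x) ≤ dot b b :=
      sum_le_sum_of_subset_of_nonneg (subset_univ _) fun x _ _ => mul_self_nonneg _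
    rwa [sum_insert (by simp [hpq, fun i => hrp i]), sum_insert (by simp [fun i => hrq i]),
      sum_image hinj, ← add_assoc] at this
  have hj : ∀ i : Fin 5, i ≠ 4 → β i = 1 - βp - βq := fun i h => by
    have := hdot i
    rw [hba, if_neg h] at this
    linarith
  have h4 : β 4 = -βp - βq := by
    have := hdot 4
    rw [hba, if_pos rfl] at this
    linarith
  rw [Fin.sum_univ_five, hj 0 (by decide), hj 1 (by decide), hj 2 (by decide), hj 3 (by decide),
    h4] at hnorm
  have hcases := betas (x := βp) (y := βq) (by linarith)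
  have hsump : ∑ i, a i p = 5 * a 4 p := by simp [fun i => (hsame i).1]
  have hsumq : ∑ i, a i q = 5 * a 4 q := by simp [fun i => (hsame i).2]
  have hsumr : ∑ i, a i (r 4) = a 4 (r 4) :=
    sum_eq_single 4 (fun i _ h => hzero i (r 4) (hrp 4) (hrq 4) (hrinj 4 i h.symm))
      (fun h => absurd (mem_univ _) h)
  have Cp : a 4 p * (-4 * b p - 4 * a 4 p + ∑ i, a i p) = 1 - 4 * βp := by
    rw [hsump, hβp]; linear_combination hsq 4 p (hp 4)
  have Cq : a 4 q * (-4 * b q - 4 * a 4 q + ∑ i, a i q) = 1 - 4 * βq := by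
    rw [hsumq, hβq]; linear_combination hsq 4 q (hq 4)
  have Cr : a 4 (r 4) * (-4 * b (r 4) - 4 * a 4 (r 4) + ∑ i, a i (r 4)) = -3 - 4 * β 4 := by
    rw [hsumr, hβ]; linear_combination (-3 : ℤ) * hsq 4 (r 4) (hrm 4)
  have hor := hu 4
  rcases hcases with ⟨e1, e2⟩ | ⟨e1, e2⟩ | ⟨e1, e2⟩
  · exact ⟨p, q, r 4, hpq, (hrp 4).symm, (hrq 4).symm, fun x h1 h2 h3 => hzero 4 x h1 h2 h3,
      hor p (hp 4), hor q (hq 4), hor _ (hrm 4), by omega, by omega, by omega⟩
  · exact ⟨q, r 4, p, (hrq 4).symm, hpq.symm, hrp 4, fun x h1 h2 h3 => hzero 4 x h3 h1 h2,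
      hor q (hq 4), hor _ (hrm 4), hor p (hp 4), by omega, by omega, by omega⟩
  · exact ⟨p, r 4, q, (hrp 4).symm, hpq, hrq 4, fun x h1 h2 h3 => hzero 4 x h1 h3 h2,
      hor p (hp 4), hor _ (hrm 4), hor q (hq 4), by omega, by omega, by omega⟩

end Cfsg.Agent.H23.TwoNil.Vectors
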